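import Cfsg.Agent.OD.Pre
import Cfsg.Agent.H6.Top2
import Cfsg.Agent.H6.J1A.D0
set_option autoImplicit false
set_option maxRecDepth 100000
set_option Elab.async false
set_option linter.all false
namespace CfH6.J1A
open CfH6 MulAction
noncomputable def n0_0 : Net := mkNet (nat_lit 1280) [(nat_lit 640, k0), (nat_lit 320, k1), (nat_lit 160, k2), (nat_lit 80, k3), (nat_lit 40, k4), (nat_lit 20, k5), (nat_lit 10, k6), (nat_lit 5, k7)] [(k8, nat_lit 1), (k9, nat_lit 1), (k10, nat_lit 1), (k11, nat_lit 1), (k12, nat_lit 1)]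
noncomputable def n0_1 : Net := mkNet (nat_lit 1280) [(nat_lit 640, k13), (nat_lit 320, k14), (nat_lit 160, k15), (nat_lit 80, k16), (nat_lit 40, k17), (nat_lit 20, k18), (nat_lit 10, k19), (nat_lit 5, k20)] [(k21, nat_lit 1), (k22, nat_lit 1), (k23, nat_lit 1), (k24, nat_lit 1), (k25, nat_lit 1)]
noncomputable def n0_2 : Net := mkNet (nat_lit 1280) [(nat_lit 640, k26), (nat_lit 320, k27), (nat_lit 160, k28), (nat_lit 80, k29), (nat_lit 40, k30), (nat_lit 20, k31), (nat_lit 10, k32), (nat_lit 5, k33)] [(k34, nat_lit 1), (k35, nat_lit 1), (k36, nat_lit 1), (k37, nat_lit 1), (k38, nat_lit 1)]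
noncomputable def n0_3 : Net := mkNet (nat_lit 1280) [(nat_lit 640, k39), (nat_lit 320, k40), (nat_lit 160, k41), (nat_lit 80, k42), (nat_lit 40, k43), (nat_lit 20, k44), (nat_lit 10, k45), (nat_lit 5, k46)] [(k47, nat_lit 1), (k48, nat_lit 1), (k49, nat_lit 1), (k50, nat_lit 1), (k51, nat_lit 1)]
noncomputable def n0_4 : Net := revNet n0_3
noncomputable def n0_5 : Net := mkNet (nat_lit 1280) [(nat_lit 640, k52), (nat_lit 320, k53), (nat_lit 160, k54), (nat_lit 80, k55), (nat_lit 40, k56), (nat_lit 20, k57), (nat_lit 10, k58), (nat_lit 5, k59)] [(k60, nat_lit 1), (k61, nat_lit 1), (k62, nat_lit 1), (k63, nat_lit 1), (k64, nat_lit 1)]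
noncomputable def n0_6 : Net := revNet n0_5
noncomputable def nets0 : List Net := [n0_0, n0_1, n0_2, n0_3, n0_4, n0_5, n0_6]
noncomputable def nets1 : List Net := [n0_0, n0_1, n0_3, n0_5]
def ws1 : List (List ℕ) := [[0],
  [1],
  [3],
  [5]]
def sig : List (List ℕ) := [[0],
  [1],
  [2],
  [3],
  [4],
  [5],
  [6]]
def eqs0 : List (List ℕ × List ℕ) := [([0, 0], []),
  ([1, 1], []),
  ([2, 2], []),
  ([3, 4], []),
  ([5, 6], []),
  ([3, 3], [4]),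
  ([1, 3, 1], [4, 1, 4]),
  ([2, 3], [4, 2]),
  ([2, 1, 2], [1, 2, 1]),
  ([0, 1], [1, 0]),
  ([0, 4], [4, 0]),
  ([0, 2], [2, 0]),
  ([5, 5, 5, 5], [6, 6, 6]),
  ([5, 0], [1, 5]),
  ([5, 1, 6], [3, 1, 4]),
  ([5, 3, 1, 4], [1, 0, 5]),
  ([3, 5, 4], [5, 5]),
  ([1, 2, 5, 3, 1, 2, 6], [5, 3, 1, 2, 6, 1, 2])]
def eqs : List (List ℕ × List ℕ) := eqs0
def lU : List (ℕ × ℕ) := [(0, 1045)]
noncomputable def U : ℕ := ivls lU
def l1 : List (ℕ × ℕ) := [(1, 28)]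
noncomputable def S1 : ℕ := ivls l1
def w1 : List ℕ := [2]
def l2 : List (ℕ × ℕ) := [(29, 168)]
noncomputable def S2 : ℕ := ivls l2
def w2 : List ℕ := [2, 5, 2]
def l3 : List (ℕ × ℕ) := [(197, 168)]
noncomputable def S3 : ℕ := ivls l3
def w3 : List ℕ := [2, 5, 1, 2]
def l4 : List (ℕ × ℕ) := [(365, 56)]
noncomputable def S4 : ℕ := ivls l4
def w4 : List ℕ := [2, 5, 2, 5, 2]
def l5 : List (ℕ × ℕ) := [(421, 56)]
noncomputable def S5 : ℕ := ivls l5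
def w5 : List ℕ := [2, 5, 2, 6, 2]
def l6 : List (ℕ × ℕ) := [(477, 168)]
noncomputable def S6 : ℕ := ivls l6
def w6 : List ℕ := [2, 5, 2, 5, 1, 2]
def l7 : List (ℕ × ℕ) := [(645, 168)]
noncomputable def S7 : ℕ := ivls l7
def w7 : List ℕ := [2, 5, 4, 2, 5, 2]
def l8 : List (ℕ × ℕ) := [(813, 168)]
noncomputable def S8 : ℕ := ivls l8
def w8 : List ℕ := [2, 5, 2, 5, 4, 1, 2]
def l9 : List (ℕ × ℕ) := [(981, 56)]
noncomputable def S9 : ℕ := ivls l9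
def w9 : List ℕ := [2, 5, 4, 2, 1, 6, 2]
def l10 : List (ℕ × ℕ) := [(1037, 8)]
noncomputable def S10 : ℕ := ivls l10
def w10 : List ℕ := [2, 6, 3, 1, 2, 5, 4, 1, 2]
noncomputable def J : List (List ℕ × ℕ × ℕ) := [(w1, 1, S1), (w2, 30, S2), (w3, 197, S3), (w4, 366, S4), (w5, 421, S5), (w6, 477, S6), (w7, 647, S7), (w8, 813, S8), (w9, 981, S9), (w10, 1037, S10)]
def lBig : List (ℕ × ℕ) := [(29, 336), (477, 336)]
noncomputable def J10 : List (List ℕ × ℕ × ℕ) := [([0, 0, 2, 3, 0, 0, 0], 30, S2), ([3, 0, 4, 0, 0, 1, 0], 197, S3), ([3, 2, 0, 3, 0, 0], 477, S6), ([4, 0, 4, 2, 0, 0, 0, 0], 647, S7)]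
noncomputable def J9 : List (List ℕ × ℕ × ℕ) := [([2, 0, 1, 0, 1, 0, 0], 30, S2), ([2, 3, 2, 1, 0, 0], 197, S3), ([4, 3, 0, 2, 1, 0], 477, S6), ([3, 4, 4, 0, 4, 0, 0], 647, S7)]
noncomputable def J8 : List (List ℕ × ℕ × ℕ) := [([4, 3, 0, 0, 0], 30, S2), ([3, 4, 0, 0, 4, 0], 197, S3), ([3, 4, 0, 2, 3, 0], 477, S6), ([0, 4, 0, 0, 4, 0], 647, S7)]
noncomputable def J7 : List (List ℕ × ℕ × ℕ) := [([0, 4, 3, 0, 0], 30, S2), ([1, 0, 3, 4, 0, 2, 0], 197, S3), ([3, 0, 2, 0, 0, 0], 477, S6), ([0], 647, S7)]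
noncomputable def J6 : List (List ℕ × ℕ × ℕ) := [([3, 3, 4, 0, 4, 1, 0], 30, S2), ([3, 4, 3, 4, 3, 0, 0], 197, S3), ([0], 477, S6), ([3, 4, 2, 0, 4, 0], 647, S7)]
noncomputable def J5 : List (List ℕ × ℕ × ℕ) := [([4, 0, 4, 0, 2, 3, 4, 0], 30, S2), ([4, 3, 4, 0, 3, 4, 0], 197, S3), ([4, 0, 4, 3, 1, 0], 477, S6), ([3, 0, 4, 1, 4, 0, 2, 1, 0], 647, S7)]
noncomputable def J4 : List (List ℕ × ℕ × ℕ) := [([3, 4, 1, 0, 2, 0], 30, S2), ([2, 0, 4, 4, 4, 0], 197, S3), ([4, 3, 3, 2, 0, 0], 477, S6), ([3, 0, 0, 2, 0], 647, S7)]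
noncomputable def J3 : List (List ℕ × ℕ × ℕ) := [([4, 0, 0, 0], 30, S2), ([0], 197, S3), ([0, 2, 0], 477, S6), ([0, 2, 1, 0, 0], 647, S7)]
noncomputable def J2 : List (List ℕ × ℕ × ℕ) := [([0], 30, S2), ([3, 0, 1, 0], 197, S3), ([1, 0, 2, 3, 2, 1, 0], 477, S6), ([4, 0, 2, 3, 1, 0], 647, S7)]
noncomputable def J1 : List (List ℕ × ℕ × ℕ) := [([0, 4, 0], 30, S2), ([0, 4, 2, 0], 197, S3), ([0, 4, 0, 4, 2, 0], 477, S6), ([0, 4, 0, 3, 4, 0], 647, S7)]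
def ex : List (List ℕ) := [[4, 1, 0, 6, 2]]
def bs' : List ℕ := [0, 30]
end CfH6.J1A
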