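import Cfsg.Agent.OD.Pre
import Cfsg.Agent.H6.Top2
import Cfsg.Agent.H6.J1A.C
set_option autoImplicit false
set_option maxRecDepth 100000
set_option Elab.async false
set_option linter.all false
namespace CfH6.J1A
open CfH6 MulAction
theorem e0_0 : EqsOk nets0 eqs0 1280 11 0 11 :=
  eqsOk_of _ _ _ _ 0 11 _ (by decide) (by decide +kernel)
theorem ok0 : okNets 1280 nets0 = true := by decide +kernel
theorem x1_0 : NxOk nets0 ws1 nets1 4 1280 11 1280 0 11 :=
  nxOk_of _ _ _ _ _ _ _ 0 11 _ (by decide) (by decide +kernel)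
theorem sx1 : sideNx ws1 nets1 7 1280 11 1280 = true := by decide +kernel
theorem oi1_0 : (Nat.blt 0 4 && Nat.beq (orbN nets1 4 12 (Nat.shiftLeft 1 1)) S1) = true := by decide +kernel
theorem ci1 : (Nat.beq (chkInv nets1 4 S1) 0 && S1.testBit 1) = true := by decide +kernel
theorem oi2_0 : (Nat.blt 0 4 && Nat.beq (orbN nets1 4 16 (Nat.shiftLeft 1 30)) S2) = true := by decide +kernel
theorem ci2 : (Nat.beq (chkInv nets1 4 S2) 0 && S2.testBit 30) = true := by decide +kernel
theorem oi3_0 : (Nat.blt 0 4 && Nat.beq (orbN nets1 4 16 (Nat.shiftLeft 1 197)) S3) = true := by decide +kernel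
theorem ci3 : (Nat.beq (chkInv nets1 4 S3) 0 && S3.testBit 197) = true := by decide +kernel
theorem oi4_0 : (Nat.blt 0 4 && Nat.beq (orbN nets1 4 12 (Nat.shiftLeft 1 366)) S4) = true := by decide +kernel
theorem ci4 : (Nat.beq (chkInv nets1 4 S4) 0 && S4.testBit 366) = true := by decide +kernel
theorem oi5_0 : (Nat.blt 0 4 && Nat.beq (orbN nets1 4 12 (Nat.shiftLeft 1 421)) S5) = true := by decide +kernel
theorem ci5 : (Nat.beq (chkInv nets1 4 S5) 0 && S5.testBit 421) = true := by decide +kernel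
theorem oi6_0 : (Nat.blt 0 4 && Nat.beq (orbN nets1 4 16 (Nat.shiftLeft 1 477)) S6) = true := by decide +kernel
theorem ci6 : (Nat.beq (chkInv nets1 4 S6) 0 && S6.testBit 477) = true := by decide +kernel
theorem oi7_0 : (Nat.blt 0 4 && Nat.beq (orbN nets1 4 16 (Nat.shiftLeft 1 647)) S7) = true := by decide +kernel
theorem ci7 : (Nat.beq (chkInv nets1 4 S7) 0 && S7.testBit 647) = true := by decide +kernel
theorem oi8_0 : (Nat.blt 0 4 && Nat.beq (orbN nets1 4 16 (Nat.shiftLeft 1 813)) S8) = true := by decide +kernel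
theorem ci8 : (Nat.beq (chkInv nets1 4 S8) 0 && S8.testBit 813) = true := by decide +kernel
theorem oi9_0 : (Nat.blt 0 4 && Nat.beq (orbN nets1 4 12 (Nat.shiftLeft 1 981)) S9) = true := by decide +kernel
theorem ci9 : (Nat.beq (chkInv nets1 4 S9) 0 && S9.testBit 981) = true := by decide +kernel
theorem oi10_0 : (Nat.blt 0 4 && Nat.beq (orbN nets1 4 4 (Nat.shiftLeft 1 1037)) S10) = true := by decide +kernel
theorem ci10 : (Nat.beq (chkInv nets1 4 S10) 0 && S10.testBit 1037) = true := by decide +kernel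
theorem cm10 : chkMx 1280 nets0 7 ws1 4 1045 w10 1037 J10 lBig = true := by decide +kernel
theorem cm9 : chkMx 1280 nets0 7 ws1 4 1045 w9 981 J9 lBig = true := by decide +kernel
theorem cm8 : chkMx 1280 nets0 7 ws1 4 1045 w8 813 J8 lBig = true := by decide +kernel
theorem cm7 : chkMx 1280 nets0 7 ws1 4 1045 w7 647 J7 lBig = true := by decide +kernel
theorem cm6 : chkMx 1280 nets0 7 ws1 4 1045 w6 477 J6 lBig = true := by decide +kernel
theorem cm5 : chkMx 1280 nets0 7 ws1 4 1045 w5 421 J5 lBig = true := by decide +kernel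
theorem cm4 : chkMx 1280 nets0 7 ws1 4 1045 w4 366 J4 lBig = true := by decide +kernel
theorem cm3 : chkMx 1280 nets0 7 ws1 4 1045 w3 197 J3 lBig = true := by decide +kernel
theorem cm2 : chkMx 1280 nets0 7 ws1 4 1045 w2 30 J2 lBig = true := by decide +kernel
theorem cm1 : chkMx 1280 nets0 7 ws1 4 1045 w1 1 J1 lBig = true := by decide +kernel
theorem pw0 : (allLt 7 (wpow [4, 1, 0, 6, 2] (19 ^ 1)) && bs'.all fun b => Nat.blt b 1280 && Nat.beq (chkMap nets0 (wpow [4, 1, 0, 6, 2] (19 ^ 1)) b b) 0) = true := by decide +kernel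
end CfH6.J1A
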